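import Groth.Agent.Books.AlgPts

/-!
# Local tools over an algebraically closed field

* `eq_of_local` : two morphisms from a scheme locally of finite type which agree near every rational point agree;
* `exists_factor_red` : a morphism from a reduced scheme factors through a surjective closed immersion;
* `exists_fibre` : the fibre of a morphism over a section.
-/

set_option autoImplicit false
universe u
open CategoryTheory MonoidalCategory CartesianMonoidalCategory MonObj GrpObj AlgebraicGeometry Limits

namespace K501.Local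

open Groth.Agent.Books.AlgPts

/-- Two morphisms from a scheme locally of finite type over `k` algebraically closed which agree near every rational
point agree. -/
theorem eq_of_local {k : Type u} [Field k] [IsAlgClosed k] {F Y : Over (Spec (CommRingCat.of k))}
    [LocallyOfFiniteType F.hom] (f g : F ⟶ Y)
    (h : ∀ y : 𝟙_ (Over (Spec (CommRingCat.of k))) ⟶ F, ∃ V : F.left.Opens, pt y ∈ V ∧ V.ι ≫ f.left = V.ι ≫ g.left) :
    f = g := by
  ext1
  let s := {V : F.left.Opens // V.ι ≫ f.left = V.ι ≫ g.left}
  have hU : TopologicalSpace.IsOpenCover (fun V : s => V.1) := by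
    rw [TopologicalSpace.IsOpenCover, eq_top_iff]
    intro z _
    by_contra hz
    obtain ⟨y, hy⟩ := exists_pt_mem (X := F) (U := ((⨆ V : s, V.1 : F.left.Opens) : Set F.left)ᶜ) ⟨z, hz⟩
      ((⨆ V : s, V.1 : F.left.Opens).isOpen.isClosed_compl.isLocallyClosed)
    obtain ⟨V, hV, hVe⟩ := h y
    exact hy (TopologicalSpace.Opens.mem_iSup.2 ⟨⟨V, hVe⟩, hV⟩)
  exact (F.left.openCoverOfIsOpenCover (fun V : s => V.1) hU).hom_ext _ _ fun V => V.2

/-- A morphism from a reduced scheme factors through a surjective closed immersion. -/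
theorem exists_factor_red {S : Scheme.{u}} {T D Y : Over S} (f : T ⟶ Y) (d : D ⟶ Y) [IsReduced T.left]
    [IsClosedImmersion d.left] [Surjective d.left] : ∃ g : T ⟶ D, g ≫ d = f := by
  have h1 : IsIso (pullback.fst f.left d.left) := isIso_of_isClosedImmersion_of_surjective _
  have h2 : (inv (pullback.fst f.left d.left) ≫ pullback.snd f.left d.left) ≫ d.left = f.left := by
    rw [Category.assoc, ← pullback.condition, IsIso.inv_hom_id_assoc]
  refine ⟨Over.homMk (inv (pullback.fst f.left d.left) ≫ pullback.snd f.left d.left) ?_, ?_⟩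
  · rw [← Over.w d, ← Category.assoc, h2, Over.w]
  · ext1
    exact h2

/-- The fibre of a morphism over a section. -/
theorem exists_fibre {S : Scheme.{u}} {Y X : Over S} (f : Y ⟶ X) (x₀ : 𝟙_ (Over S) ⟶ X) [IsSeparated X.hom] :
    ∃ (F : Over S) (e : F ⟶ Y), IsClosedImmersion e.left ∧ e ≫ f = toUnit F ≫ x₀ ∧
      ∀ (T : Over S) (g : T ⟶ Y), g ≫ f = toUnit T ≫ x₀ → ∃ h : T ⟶ F, h ≫ e = g := by
  have toUnit_left : ∀ T : Over S, (toUnit T).left = T.hom := fun T => by simp
  have hcl : IsClosedImmersion x₀.left := by
    have h1 : x₀.left ≫ X.hom = 𝟙 S := Over.w x₀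
    have h2 : IsClosedImmersion (x₀.left ≫ X.hom) := by
      rw [h1]
      exact inferInstanceAs (IsClosedImmersion (𝟙 S))
    exact IsClosedImmersion.of_comp x₀.left X.hom
  have h0 : pullback.fst f.left x₀.left ≫ Y.hom = pullback.snd f.left x₀.left := by
    rw [← Over.w f, pullback.condition_assoc]
    have h1 : x₀.left ≫ X.hom = 𝟙 S := Over.w x₀
    rw [h1]
    exact Category.comp_id _
  refine ⟨Over.mk (pullback.fst f.left x₀.left ≫ Y.hom), Over.homMk (pullback.fst f.left x₀.left), ?_, ?_, ?_⟩
  · exact inferInstanceAs (IsClosedImmersion (pullback.fst f.left x₀.left))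
  · ext1
    rw [Over.comp_left, Over.comp_left, toUnit_left]
    change pullback.fst f.left x₀.left ≫ f.left = (pullback.fst f.left x₀.left ≫ Y.hom) ≫ x₀.left
    rw [h0]
    exact pullback.condition
  · intro T g hg
    have h1 : g.left ≫ f.left = T.hom ≫ x₀.left := by
      rw [← Over.comp_left, hg, Over.comp_left, toUnit_left]
    refine ⟨Over.homMk (pullback.lift g.left T.hom h1) ?_, ?_⟩
    · change pullback.lift _ _ _ ≫ pullback.fst _ _ ≫ Y.hom = _
      rw [pullback.lift_fst_assoc, Over.w]
    · ext1
      exact pullback.lift_fst _ _ _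

end K501.Local
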