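import Groth.Agent.AlgGrp.K501.Homog
import Groth.Agent.AlgGrp.K501.Local

/-!
# Splitting off the central factor of a homogeneous space

`G` acts on `X`, `j : M ⟶ G` central and mono, `i : N ⟶ G`, `(m, n) ↦ j(m) i(n) x₀` is faithfully flat quasi-compact
and the stabilizer of `x₀` in `M × N` projects trivially to `M`.  Then `X ≅ M × Y`, equivariantly.
-/

set_option autoImplicit false
set_option linter.unusedSectionVars false
universe u
open CategoryTheory MonoidalCategory CartesianMonoidalCategory MonObj GrpObj AlgebraicGeometry Limits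

namespace K501.Split

open Groth.Agent Groth.Agent.Books.BorelOrb K403.Act K501.Homog

variable {S : Scheme.{u}} {G X M N : Over S} [GrpObj G] [GrpObj M] [GrpObj N] (a : AlgGrp.Action G X)
  (j : M ⟶ G) (i : N ⟶ G) [IsMonHom j] [IsMonHom i] (x₀ : 𝟙_ (Over S) ⟶ X)

section retr

variable [Flat (orb2 a j i x₀).left] [Surjective (orb2 a j i x₀).left] [QuasiCompact (orb2 a j i x₀).left]
  (hcent : ∀ (T : Over S) (m : T ⟶ M) (g : T ⟶ G), (m ≫ j) * g = g * (m ≫ j))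
  (hst : ∀ (T : Over S) (m : T ⟶ M) (n : T ⟶ N),
    sm a ((m ≫ j) * (n ≫ i)) (toUnit T ≫ x₀) = toUnit T ≫ x₀ → m = 1)

include hcent hst in
/-- The projection `X ⟶ M`. -/
theorem exists_retr : ∃ r : X ⟶ M, orb2 a j i x₀ ≫ r = fst M N := by
  refine Agf.H584.QBasic.exists_desc (orb2 a j i x₀) (fst M N) fun {T} g g' h => ?_
  rw [lift_orb2, lift_orb2] at h
  have h1 : sm a ((((g' ≫ fst M N)⁻¹ * (g ≫ fst M N)) ≫ j) * (((g' ≫ snd M N)⁻¹ * (g ≫ snd M N)) ≫ i))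
      (toUnit T ≫ x₀) = toUnit T ≫ x₀ := by
    have e1 : (((g' ≫ fst M N)⁻¹ * (g ≫ fst M N)) ≫ j) * (((g' ≫ snd M N)⁻¹ * (g ≫ snd M N)) ≫ i) =
        (((g' ≫ fst M N) ≫ j) * ((g' ≫ snd M N) ≫ i))⁻¹ *
          (((g ≫ fst M N) ≫ j) * ((g ≫ snd M N) ≫ i)) := by
      rw [MonObj.mul_comp, MonObj.mul_comp, GrpObj.inv_comp, GrpObj.inv_comp, _root_.mul_inv_rev]
      have e2 := hcent T (g ≫ fst M N) ((g' ≫ snd M N) ≫ i)⁻¹
      have e3 : Commute ((g' ≫ fst M N) ≫ j) ((g' ≫ snd M N) ≫ i) := hcent T _ _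
      calc ((g' ≫ fst M N) ≫ j)⁻¹ * ((g ≫ fst M N) ≫ j) * (((g' ≫ snd M N) ≫ i)⁻¹ * ((g ≫ snd M N) ≫ i))
          = ((g' ≫ fst M N) ≫ j)⁻¹ * (((g ≫ fst M N) ≫ j) * ((g' ≫ snd M N) ≫ i)⁻¹) *
            ((g ≫ snd M N) ≫ i) := by simp only [_root_.mul_assoc]
        _ = (((g' ≫ fst M N) ≫ j)⁻¹ * ((g' ≫ snd M N) ≫ i)⁻¹) * (((g ≫ fst M N) ≫ j) *
            ((g ≫ snd M N) ≫ i)) := by rw [e2]; simp only [_root_.mul_assoc]
        _ = _ := by rw [e3.inv_inv.eq]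
    rw [e1, mul_sm, h, ← mul_sm, inv_mul_cancel, one_sm]
  have h2 := hst T _ _ h1
  rw [inv_mul_eq_one] at h2
  exact h2.symm

include hcent in
theorem comp_retr (r : X ⟶ M) (hr : orb2 a j i x₀ ≫ r = fst M N) [Mono j] {T : Over S} (m : T ⟶ M) (n : T ⟶ N)
    (x : T ⟶ X) : sm a ((m ≫ j) * (n ≫ i)) x ≫ r = (x ≫ r) * m := by
  obtain ⟨T', c, g, hc, -, -, -, hg⟩ := exists_cover (orb2 a j i x₀) x
  have hcm : ∀ (p q : T' ⟶ M), p * q = q * p := fun p q => by
    rw [← cancel_mono j, MonObj.mul_comp, MonObj.mul_comp, hcent]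
  rw [← cancel_epi c, ← Category.assoc, comp_sm, MonObj.comp_mul c (x ≫ r), ← Category.assoc c x, hg, Category.assoc g,
    hr, lift_orb2, ← mul_sm, hcm]
  have e1 : c ≫ ((m ≫ j) * (n ≫ i)) * (((g ≫ fst M N) ≫ j) * ((g ≫ snd M N) ≫ i)) =
      ((lift ((c ≫ m) * (g ≫ fst M N)) ((c ≫ n) * (g ≫ snd M N)) ≫ fst M N) ≫ j) *
      ((lift ((c ≫ m) * (g ≫ fst M N)) ((c ≫ n) * (g ≫ snd M N)) ≫ snd M N) ≫ i) := by
    rw [lift_fst, lift_snd, MonObj.comp_mul, MonObj.mul_comp, MonObj.mul_comp, Category.assoc, Category.assoc]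
    have e2 := hcent T' (g ≫ fst M N) (c ≫ n ≫ i)
    calc (c ≫ m ≫ j) * (c ≫ n ≫ i) * (((g ≫ fst M N) ≫ j) * ((g ≫ snd M N) ≫ i))
        = (c ≫ m ≫ j) * ((c ≫ n ≫ i) * ((g ≫ fst M N) ≫ j)) * ((g ≫ snd M N) ≫ i) := by
          simp only [_root_.mul_assoc]
      _ = _ := by rw [← e2]; simp only [_root_.mul_assoc, Category.assoc]
  have e3 : c ≫ ((m ≫ j) * (n ≫ i)) * (((g ≫ fst M N) ≫ j) * ((g ≫ snd M N) ≫ i)) =
    (c ≫ ((m ≫ j) * (n ≫ i))) * (((g ≫ fst M N) ≫ j) * ((g ≫ snd M N) ≫ i)) := rfl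
  rw [← e3, e1, ← lift_orb2, Category.assoc, hr, lift_fst]

end retr

section split

variable [Mono j] (hcent : ∀ (T : Over S) (m : T ⟶ M) (g : T ⟶ G), (m ≫ j) * g = g * (m ≫ j))
  (r : X ⟶ M) (hr : ∀ (T : Over S) (m : T ⟶ M) (n : T ⟶ N) (x : T ⟶ X),
    sm a ((m ≫ j) * (n ≫ i)) x ≫ r = (x ≫ r) * m)

include hcent hr in
/-- **The splitting.** -/
theorem exists_split [IsSeparated M.hom] : ∃ (Y : Over S) (b : AlgGrp.Action N Y) (e : X ≅ M ⊗ Y),
    ∀ (T : Over S) (m' : T ⟶ M) (n : T ⟶ N) (x : T ⟶ X),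
      lift ((m' ≫ j) * (n ≫ i)) x ≫ a.act ≫ e.hom =
        lift ((x ≫ e.hom ≫ fst M Y) * m') (lift n (x ≫ e.hom ≫ snd M Y) ≫ b.act) := by
  obtain ⟨Y, y, hy1, hy2, hy3⟩ := Local.exists_fibre r η[M]
  have hymono : Mono y := by
    have : Mono y.left := inferInstance
    exact Over.mono_of_mono_left y
  have hcm : ∀ {T : Over S} (p q : T ⟶ M), p * q = q * p := fun p q => by
    rw [← cancel_mono j, MonObj.mul_comp, MonObj.mul_comp, hcent]
  have hy2' : y ≫ r = 1 := by rw [hy2, Hom.one_def]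
  have hy3' : ∀ (T : Over S) (g : T ⟶ X), g ≫ r = 1 → ∃ h : T ⟶ Y, h ≫ y = g := fun T g hg =>
    hy3 T g (by rw [hg, Hom.one_def])
  have hrm : ∀ (T : Over S) (m : T ⟶ M) (x : T ⟶ X), sm a (m ≫ j) x ≫ r = (x ≫ r) * m := fun T m x => by
    have := hr T m 1 x
    rwa [MonObj.one_comp, _root_.mul_one] at this
  have hrn : ∀ (T : Over S) (n : T ⟶ N) (x : T ⟶ X), sm a (n ≫ i) x ≫ r = x ≫ r := fun T n x => by
    have := hr T 1 n x
    rwa [MonObj.one_comp, _root_.one_mul, _root_.mul_one] at this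
  -- the map to the fibre
  obtain ⟨q, hq⟩ := hy3' X (sm a (r⁻¹ ≫ j) (𝟙 X)) (by rw [hrm, Category.id_comp, mul_inv_cancel])
  have hq' : ∀ {T : Over S} (x : T ⟶ X), x ≫ q ≫ y = sm a ((x ≫ r)⁻¹ ≫ j) x := fun {T} x => by
    rw [hq, comp_sm, Category.comp_id, ← Category.assoc, GrpObj.comp_inv]
  -- the action
  obtain ⟨β, hβ⟩ := hy3' (N ⊗ Y) (sm a (fst N Y ≫ i) (snd N Y ≫ y)) (by
    rw [hrn, Category.assoc, hy2', MonObj.comp_one])
  have hβ' : ∀ {T : Over S} (n : T ⟶ N) (z : T ⟶ Y), (lift n z ≫ β) ≫ y = sm a (n ≫ i) (z ≫ y) := fun {T} n z => by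
    rw [Category.assoc, hβ, comp_sm, ← Category.assoc, lift_fst, ← Category.assoc, lift_snd]
  let b : AlgGrp.Action N Y :=
    { act := β
      one_act := by
        rw [← cancel_mono y]
        have e1 : (η[N] ▷ Y) = lift 1 (snd _ _) := by
          rw [Hom.one_def]
          apply CartesianMonoidalCategory.hom_ext
          · rw [lift_fst, whiskerRight_fst, toUnit_unique (toUnit _) (fst _ _)]
          · rw [lift_snd, whiskerRight_snd]
        rw [e1, hβ', MonObj.one_comp, one_sm, leftUnitor_hom]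
      mul_act := by
        rw [← cancel_mono y]
        have e1 : (μ[N] ▷ Y) = lift ((fst (N ⊗ N) Y ≫ fst N N) * (fst (N ⊗ N) Y ≫ snd N N)) (snd _ _) := by
          apply CartesianMonoidalCategory.hom_ext
          · rw [lift_fst, whiskerRight_fst, Hom.mul_def]
            congr 1
            apply CartesianMonoidalCategory.hom_ext <;> simp
          · rw [lift_snd, whiskerRight_snd]
        have e2 : (α_ N N Y).hom ≫ (N ◁ β) = lift (fst (N ⊗ N) Y ≫ fst N N)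
            (lift (fst (N ⊗ N) Y ≫ snd N N) (snd _ _) ≫ β) := by
          apply CartesianMonoidalCategory.hom_ext
          · simp
          · rw [lift_snd, Category.assoc, whiskerLeft_snd, ← Category.assoc]
            congr 1
            apply CartesianMonoidalCategory.hom_ext <;> simp
        rw [e1, hβ', ← Category.assoc (α_ N N Y).hom, e2, hβ', hβ', MonObj.mul_comp, mul_sm] }
  let e : X ≅ M ⊗ Y :=
    { hom := lift r q
      inv := sm a (fst M Y ≫ j) (snd M Y ≫ y)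
      hom_inv_id := by
        rw [comp_sm, ← Category.assoc, lift_fst, ← Category.assoc, lift_snd]
        have h := hq' (𝟙 X)
        rw [Category.id_comp, Category.id_comp] at h
        rw [h, ← mul_sm, ← MonObj.mul_comp, mul_inv_cancel, MonObj.one_comp, one_sm]
      inv_hom_id := by
        have h1 : sm a (fst M Y ≫ j) (snd M Y ≫ y) ≫ r = fst M Y := by
          rw [hrm, Category.assoc, hy2', MonObj.comp_one, _root_.one_mul]
        apply CartesianMonoidalCategory.hom_ext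
        · rw [Category.assoc, lift_fst, h1, Category.id_comp]
        · rw [Category.assoc, lift_snd, Category.id_comp, ← cancel_mono y, Category.assoc, hq', h1, ← mul_sm,
            ← MonObj.mul_comp, inv_mul_cancel, MonObj.one_comp, one_sm] }
  refine ⟨Y, b, e, fun T m' n x => ?_⟩
  change lift ((m' ≫ j) * (n ≫ i)) x ≫ a.act ≫ lift r q =
        lift ((x ≫ lift r q ≫ fst M Y) * m') (lift n (x ≫ lift r q ≫ snd M Y) ≫ β)
  rw [lift_fst, lift_snd]
  apply CartesianMonoidalCategory.hom_ext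
  · rw [lift_fst, Category.assoc, Category.assoc, lift_fst, ← hr]
    rfl
  · rw [lift_snd, Category.assoc, Category.assoc, lift_snd, ← cancel_mono y, hβ', Category.assoc x, hq']
    have h1 : (lift ((m' ≫ j) * (n ≫ i)) x ≫ a.act ≫ q) ≫ y = sm a ((m' ≫ j) * (n ≫ i)) x ≫ q ≫ y := by
      simp only [sm, Category.assoc]
    rw [h1, hq', hr, ← mul_sm, ← mul_sm]
    congr 1
    rw [_root_.mul_inv_rev, MonObj.mul_comp]
    have e1 := hcent T (x ≫ r)⁻¹ (m' ≫ j)
    have e2 := hcent T (x ≫ r)⁻¹ (n ≫ i)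
    rw [GrpObj.inv_comp m' j, ← e2]
    calc (m' ≫ j)⁻¹ * ((x ≫ r)⁻¹ ≫ j) * ((m' ≫ j) * (n ≫ i))
        = (m' ≫ j)⁻¹ * (((x ≫ r)⁻¹ ≫ j) * (m' ≫ j)) * (n ≫ i) := by simp only [_root_.mul_assoc]
      _ = _ := by rw [e1, inv_mul_cancel_left]

end split

end K501.Split
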