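import Groth.Agent.AlgGrp.K403.Act
import Groth.Agent.Sga3B.Parab.Dyn998
import Mathlib.AlgebraicGeometry.Morphisms.SchemeTheoreticallyDominant

/-!
# The contraction argument for stabilizers

`G` acts on `X` separated, `x₀` a point fixed by `λ : 𝔾_m ⟶ N ⟶ G`, `j : M ⟶ G` commuting with `i : N ⟶ G`.
If `u` is a point of `N` with `lim_{t → 0} λ(t) u λ(t)⁻¹ = 1` and `j(m) i(u) x₀ = x₀` then `j(m) x₀ = x₀`.
-/

set_option autoImplicit false
set_option linter.unusedSectionVars false
universe u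
open CategoryTheory MonoidalCategory CartesianMonoidalCategory MonObj GrpObj AlgebraicGeometry Limits
open scoped LaurentPolynomial Polynomial

namespace K501.Contract

open Groth.Agent.Books.BorelOrb K403.Act Groth.Agent.Sga3B.Parab

section dom

/-- Morphisms to a separated scheme agree if they agree after a schematically dominant morphism. -/
theorem ext_of_dom {Z Y X S : Scheme.{u}} (t : Z ⟶ Y) [IsSchemeTheoreticallyDominant t] (q : X ⟶ S) [IsSeparated q]
    {f g : Y ⟶ X} (hfg : f ≫ q = g ≫ q) (h : t ≫ f = t ≫ g) : f = g := by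
  have hS : IsClosedImmersion (pullback.diagonal q) := inferInstance
  obtain ⟨w, hw1, hw2⟩ : ∃ w : Y ⟶ pullback q q, w ≫ pullback.fst q q = f ∧ w ≫ pullback.snd q q = g :=
    ⟨pullback.lift f g hfg, pullback.lift_fst _ _ _, pullback.lift_snd _ _ _⟩
  have h1 : IsClosedImmersion (pullback.fst w (pullback.diagonal q)) := inferInstance
  have h2 : t ≫ w = (t ≫ f) ≫ pullback.diagonal q := by
    apply pullback.hom_ext
    · rw [Category.assoc, hw1, Category.assoc, pullback.diagonal_fst, Category.comp_id]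
    · rw [Category.assoc, hw2, Category.assoc, pullback.diagonal_snd, Category.comp_id, h]
  have h3 : pullback.lift t (t ≫ f) h2 ≫ pullback.fst w (pullback.diagonal q) = t := pullback.lift_fst _ _ _
  have h4 : (pullback.fst w (pullback.diagonal q)).ker = ⊥ := by
    have h5 := Scheme.Hom.le_ker_comp (pullback.lift t (t ≫ f) h2) (pullback.fst w (pullback.diagonal q))
    rw [h3, t.ker_eq_bot] at h5
    exact le_bot_iff.1 h5
  have h6 : IsIso (pullback.fst w (pullback.diagonal q)) := IsClosedImmersion.isIso_iff_ker_eq_bot.2 h4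
  have h8 : w = inv (pullback.fst w (pullback.diagonal q)) ≫ pullback.snd w (pullback.diagonal q) ≫
      pullback.diagonal q := by
    rw [← pullback.condition, IsIso.inv_hom_id_assoc]
  rw [← hw1, ← hw2, h8, Category.assoc, Category.assoc, Category.assoc, Category.assoc, pullback.diagonal_fst,
    pullback.diagonal_snd]

theorem over_ext_of_dom {S : Scheme.{u}} {T T' X : Over S} (t : T' ⟶ T) [IsSchemeTheoreticallyDominant t.left]
    [IsSeparated X.hom] {f g : T ⟶ X} (h : t ≫ f = t ≫ g) : f = g := by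
  ext1
  refine ext_of_dom t.left X.hom ?_ ?_
  · rw [Over.w, Over.w]
  · rw [← Over.comp_left, h, Over.comp_left]

/-- An injective ring homomorphism gives a schematically dominant morphism. -/
theorem dom_specMap {R S : CommRingCat.{u}} (φ : R ⟶ S)
    (h : Function.Injective φ.hom) : IsSchemeTheoreticallyDominant (Spec.map φ) := by
  refine ⟨?_⟩
  rw [Scheme.ker_of_isAffine]
  have h1 : RingHom.ker (Spec.map φ).appTop.hom = ⊥ := by
    rw [← RingHom.injective_iff_ker_eq_bot]
    have h2 := Scheme.ΓSpecIso_naturality φ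
    have h3 : (Spec.map φ).appTop = (Scheme.ΓSpecIso R).hom ≫ φ ≫ (Scheme.ΓSpecIso S).inv := by
      rw [← Category.assoc, ← h2, Category.assoc, Iso.hom_inv_id, Category.comp_id]
    rw [h3]
    simp only [CommRingCat.hom_comp, RingHom.coe_comp]
    refine (Function.Injective.comp ?_ h).comp ?_
    · exact (ConcreteCategory.bijective_of_isIso (Scheme.ΓSpecIso S).inv).1
    · exact (ConcreteCategory.bijective_of_isIso (Scheme.ΓSpecIso R).hom).1
  rw [h1]
  exact Scheme.IdealSheafData.ext_of_isAffine (by simp)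

/-- `Spec C[T;T⁻¹] ⟶ Spec C[T]` is schematically dominant. -/
theorem dom_toLin {S : Scheme.{u}} (C : Type u) [CommRing C] (c : Spec (CommRingCat.of C) ⟶ S) :
    IsSchemeTheoreticallyDominant (toLin C c).left :=
  dom_specMap _ Polynomial.toLaurent_injective

end dom

section main

variable {S : Scheme.{u}} {G X M N : Over S} [GrpObj G] [GrpObj M] [GrpObj N] (a : AlgGrp.Action G X)
  (j : M ⟶ G) (i : N ⟶ G) [IsMonHom j] [IsMonHom i]

/-- The contraction argument. -/
theorem fix_of_cell [IsSeparated X.hom] (x₀ : 𝟙_ (Over S) ⟶ X)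
    (hcent : ∀ (T : Over S) (m : T ⟶ M) (g : T ⟶ G), (m ≫ j) * g = g * (m ≫ j))
    (lam : Red.Gm S ⟶ N) [IsMonHom lam]
    (hlam : ∀ (T : Over S) (t : T ⟶ Red.Gm S), sm a ((t ≫ lam) ≫ i) (toUnit T ≫ x₀) = toUnit T ≫ x₀)
    {C : Type u} [CommRing C] {c : Spec (CommRingCat.of C) ⟶ S} (m : aff C c ⟶ M) (v : aff C c ⟶ N)
    (hv : LimOne lam v) (h : sm a ((m ≫ j) * (v ≫ i)) (toUnit _ ≫ x₀) = toUnit _ ≫ x₀) :
    sm a (m ≫ j) (toUnit _ ≫ x₀) = toUnit _ ≫ x₀ := by
  obtain ⟨w, hw, hw0⟩ := hv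
  have hd := dom_toLin C c
  -- `m · h(T)` fixes `x₀` over `Spec C[T]`
  have key : sm a (((linPr C c ≫ m) ≫ j) * (w ≫ i)) (toUnit _ ≫ x₀) = toUnit _ ≫ x₀ := by
    refine over_ext_of_dom (toLin C c) ?_
    have e1 : toLin C c ≫ linPr C c = gmPr C c := Dyn998.toLin_linPr
    rw [comp_sm, MonObj.comp_mul, ← Category.assoc, ← Category.assoc, e1, ← Category.assoc (toLin C c) w i, hw,
      ← Category.assoc, toUnit_unique (toLin C c ≫ toUnit _) (toUnit _), orb, MonObj.mul_comp, MonObj.mul_comp]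
    have e2 : ((gmPr C c ≫ m) ≫ j) * (((tPt C c ≫ lam) ≫ i) * ((gmPr C c ≫ v) ≫ i) * ((tPt C c ≫ lam)⁻¹ ≫ i)) =
        ((tPt C c ≫ lam) ≫ i) * (gmPr C c ≫ ((m ≫ j) * (v ≫ i))) * (((tPt C c)⁻¹ ≫ lam) ≫ i) := by
      rw [GrpObj.inv_comp (tPt C c) lam, MonObj.comp_mul, ← Category.assoc, ← Category.assoc,
        ← _root_.mul_assoc, ← _root_.mul_assoc, hcent, ← _root_.mul_assoc]
    rw [e2, mul_sm, mul_sm, hlam]
    have e3 : sm a (gmPr C c ≫ ((m ≫ j) * (v ≫ i))) (toUnit (gmo C c) ≫ x₀) = toUnit (gmo C c) ≫ x₀ := by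
      have h3 := congrArg (fun f => gmPr C c ≫ f) h
      simp only [comp_sm, ← Category.assoc] at h3
      rwa [toUnit_unique (gmPr C c ≫ toUnit _) (toUnit _)] at h3
    rw [e3, hlam]
  have h4 := congrArg (fun f => zeroSec C c ≫ f) key
  simp only [comp_sm, MonObj.comp_mul, ← Category.assoc] at h4
  have e4 : zeroSec C c ≫ linPr C c = 𝟙 _ := Dyn998.zeroSec_linPr
  rw [e4, Category.id_comp, hw0, MonObj.one_comp, _root_.mul_one,
    toUnit_unique (zeroSec C c ≫ toUnit _) (toUnit _)] at h4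
  exact h4

end main

end K501.Contract
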