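import Groth.Agent.AlgGrp.K403.Act
import Groth.Agent.AlgGrp.K405.ConnOrbit
import Groth.Agent.Agf.H623.SchSurj

/-!
# Points acting trivially on a homogeneous space

`G` acts on `X`, `j : M ⟶ G` central, `i : N ⟶ G`, and `(m, n) ↦ j(m) i(n) x₀` is faithfully flat and quasi-compact.

* `triv_of_conj` : a point `z` of `G` with `z m n x₀ = m n x₀` for all `m`, `n` acts trivially;
* `surjective_orbitMap` : orbit maps of a transitive action over an algebraically closed field are surjective.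
-/

set_option autoImplicit false
set_option linter.unusedSectionVars false
universe u
open CategoryTheory MonoidalCategory CartesianMonoidalCategory MonObj GrpObj AlgebraicGeometry Limits

namespace K501.Homog

open Groth.Agent.Books.BorelOrb K403.Act

section gen

variable {S : Scheme.{u}} {G X M N : Over S} [GrpObj G] [GrpObj M] [GrpObj N] (a : AlgGrp.Action G X)
  (j : M ⟶ G) (i : N ⟶ G)

/-- The map `(m, n) ↦ j(m) i(n) x₀`. -/
noncomputable def orb2 (x₀ : 𝟙_ (Over S) ⟶ X) : M ⊗ N ⟶ X := ((j ⊗ₘ i) ≫ μ[G]) ≫ a.orbitMap x₀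

lemma lift_orb2 (x₀ : 𝟙_ (Over S) ⟶ X) {T : Over S} (g : T ⟶ M ⊗ N) :
    g ≫ orb2 a j i x₀ = sm a (((g ≫ fst M N) ≫ j) * ((g ≫ snd M N) ≫ i)) (toUnit T ≫ x₀) := by
  rw [orb2, ← Category.assoc, comp_orbitMap]
  congr 1
  rw [Hom.mul_def, ← Category.assoc]
  congr 1
  apply CartesianMonoidalCategory.hom_ext <;> simp

/-- A point of `G` which fixes all the points `m n x₀` acts trivially. -/
theorem triv_of_conj (x₀ : 𝟙_ (Over S) ⟶ X) [Flat (orb2 a j i x₀).left] [Surjective (orb2 a j i x₀).left]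
    [QuasiCompact (orb2 a j i x₀).left] {T : Over S} (z : T ⟶ G)
    (h : ∀ (T' : Over S) (t : T' ⟶ T) (m : T' ⟶ M) (n : T' ⟶ N),
      sm a ((t ≫ z) * ((m ≫ j) * (n ≫ i))) (toUnit T' ≫ x₀) = sm a ((m ≫ j) * (n ≫ i)) (toUnit T' ≫ x₀)) :
    Triv a z := by
  intro T' s x
  obtain ⟨T'', c, g, hc, -, -, -, hg⟩ := exists_cover (orb2 a j i x₀) x
  rw [← cancel_epi c, comp_sm, hg, lift_orb2, ← mul_sm, ← Category.assoc]
  exact h _ _ _ _

/-- A central point fixing `x₀` acts trivially. -/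
theorem triv_of_central (x₀ : 𝟙_ (Over S) ⟶ X) [Flat (orb2 a j i x₀).left] [Surjective (orb2 a j i x₀).left]
    [QuasiCompact (orb2 a j i x₀).left] {T : Over S} (z : T ⟶ G)
    (hm : ∀ (T' : Over S) (t : T' ⟶ T) (m : T' ⟶ M), (t ≫ z) * (m ≫ j) = (m ≫ j) * (t ≫ z))
    (hn : ∀ (T' : Over S) (t : T' ⟶ T) (n : T' ⟶ N), (t ≫ z) * (n ≫ i) = (n ≫ i) * (t ≫ z))
    (hx : sm a z (toUnit T ≫ x₀) = toUnit T ≫ x₀) : Triv a z := by
  refine triv_of_conj a j i x₀ z fun T' t m n => ?_
  have h1 : (t ≫ z) * ((m ≫ j) * (n ≫ i)) = ((m ≫ j) * (n ≫ i)) * (t ≫ z) := by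
    rw [← _root_.mul_assoc, hm, _root_.mul_assoc, hn, ← _root_.mul_assoc]
  have h2 : sm a (t ≫ z) (toUnit T' ≫ x₀) = toUnit T' ≫ x₀ := by
    have h3 := congrArg (fun f => t ≫ f) hx
    simp only [comp_sm, ← Category.assoc] at h3
    rwa [toUnit_unique (t ≫ toUnit T) (toUnit T')] at h3
  rw [h1, mul_sm, h2]

/-- The points of a normal subgroup of `N` fixing `x₀` act trivially, `M` being central. -/
theorem triv_of_normal (x₀ : 𝟙_ (Over S) ⟶ X) [Flat (orb2 a j i x₀).left] [Surjective (orb2 a j i x₀).left]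
    [QuasiCompact (orb2 a j i x₀).left] [IsMonHom i]
    (hcent : ∀ (T : Over S) (m : T ⟶ M) (g : T ⟶ G), (m ≫ j) * g = g * (m ≫ j))
    {U : Over S} [GrpObj U] (w : U ⟶ N) (hw : AlgGrp.IsNormalHom w)
    (hx : ∀ (T : Over S) (u : T ⟶ U), sm a (u ≫ w ≫ i) (toUnit T ≫ x₀) = toUnit T ≫ x₀)
    {T : Over S} (u : T ⟶ U) : Triv a (u ≫ w ≫ i) := by
  refine triv_of_conj a j i x₀ _ fun T' t m n => ?_
  obtain ⟨u', hu'⟩ := hw T' n⁻¹ (t ≫ u)
  have h1 : (t ≫ u ≫ w ≫ i) * ((m ≫ j) * (n ≫ i)) = ((m ≫ j) * (n ≫ i)) * (u' ≫ w ≫ i) := by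
    rw [← _root_.mul_assoc, ← hcent, _root_.mul_assoc, _root_.mul_assoc]
    congr 1
    have h2 : (t ≫ u ≫ w ≫ i) = ((t ≫ u) ≫ w) ≫ i := by simp only [Category.assoc]
    have h3 : (u' ≫ w ≫ i) = (u' ≫ w) ≫ i := by simp only [Category.assoc]
    rw [h2, h3, ← hu', ← MonObj.mul_comp, ← MonObj.mul_comp]
    congr 1
    group
  rw [h1, mul_sm, hx]

end gen

section field

variable {k : Type u} [Field k] {G X M N : Over (Spec (CommRingCat.of k))} [GrpObj G] (a : AlgGrp.Action G X)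

/-- Orbit maps of a transitive action are surjective. -/
theorem surjective_orbitMap [IsAlgClosed k] [LocallyOfFiniteType G.hom] [LocallyOfFiniteType X.hom]
    [QuasiCompact X.hom] [QuasiCompact G.hom] (htrans : Surjective (lift a.act (snd G X)).left)
    (x₀ : 𝟙_ (Over (Spec (CommRingCat.of k))) ⟶ X) : Surjective (a.orbitMap x₀).left := by
  have hN : IsLocallyNoetherian X.left := LocallyOfFiniteType.isLocallyNoetherian X.hom
  have hqc : QuasiCompact (a.orbitMap x₀).left := by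
    have h : QuasiCompact ((a.orbitMap x₀).left ≫ X.hom) := by rw [Over.w]; infer_instance
    exact QuasiCompact.of_comp (a.orbitMap x₀).left X.hom
  have hcp : CompactSpace X.left := (quasiCompact_iff_compactSpace X.hom).1 inferInstance
  have hGX : LocallyOfFiniteType (G ⊗ X).hom :=
    inferInstanceAs (LocallyOfFiniteType (pullback.fst G.hom X.hom ≫ G.hom))
  have hXX : LocallyOfFiniteType (X ⊗ X).hom :=
    inferInstanceAs (LocallyOfFiniteType (pullback.fst X.hom X.hom ≫ X.hom))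
  refine Groth.Agent.Agf.H623.SchSurj.surjective_of_forall_pt _ fun y => ?_
  obtain ⟨g, hg⟩ := Groth.Agent.Agf.H623.SchSurj.exists_lift_of_surjective (lift a.act (snd G X)) (lift y x₀)
  have h1 := congrArg (fun f => f ≫ fst X X) hg
  have h2 := congrArg (fun f => f ≫ snd X X) hg
  simp only [Category.assoc, lift_fst, lift_snd] at h1 h2
  refine ⟨g ≫ fst G X, ?_⟩
  rw [comp_orbitMap, toUnit_unique (toUnit _) (𝟙 _), Category.id_comp, ← h2, ← h1, sm]
  congr 1
  apply CartesianMonoidalCategory.hom_ext <;> simp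

/-- Over a field, a surjective orbit map onto an integral scheme of finite type is faithfully flat and
quasi-compact. -/
theorem orbitMap_props [LocallyOfFiniteType X.hom] [QuasiCompact G.hom] [IsIntegral X.left]
    (x₀ : 𝟙_ (Over (Spec (CommRingCat.of k))) ⟶ X) [Surjective (a.orbitMap x₀).left] :
    Flat (a.orbitMap x₀).left ∧ QuasiCompact (a.orbitMap x₀).left := by
  have hN : IsLocallyNoetherian X.left := LocallyOfFiniteType.isLocallyNoetherian X.hom
  have hqc : QuasiCompact (a.orbitMap x₀).left := by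
    have h : QuasiCompact ((a.orbitMap x₀).left ≫ X.hom) := by rw [Over.w]; infer_instance
    exact QuasiCompact.of_comp (a.orbitMap x₀).left X.hom
  exact ⟨K405.ConnOrbit.flat_orbitMap a x₀, hqc⟩

end field

end K501.Homog
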