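import Groth.Prelude.Def_ChGrp
import Groth.Agent.AlgGrp.K501.Homog
import Groth.Agent.AlgGrp.K501.Contract
import Groth.Agent.AlgGrp.K501.Local
import Groth.Agent.AlgGrp.K408.OrbDim
import Groth.Agent.Sga3B.RedIdComp
import Groth.Agent.Books.AlgPtsSmooth
import Groth.Agent.RedSub.H648.ClosedBor
import Groth.Agent.RedSub.H660.TypeGeom
import Groth.Agent.Sga3B.Parab.DynCell998

/-!
# The stabilizer of a point fixed by a Borel subgroup in a product of a central group and a reductive group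
-/

set_option autoImplicit false
set_option linter.unusedSectionVars false
universe u
open CategoryTheory MonoidalCategory CartesianMonoidalCategory MonObj GrpObj AlgebraicGeometry Limits

namespace K501.Stab

open Groth.Agent Groth.Agent.Books.BorelOrb Groth.Agent.Books.AlgPts Groth.Agent.Sga3B.Parab Groth.Agent.Sga3B.Par
  Groth.Agent.Sga3B

section parab

variable {K : Type u} [Field K] [IsAlgClosed K] {N St B : Over (Spec (CommRingCat.of K))} [GrpObj N] [GrpObj St]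
  [GrpObj B]

/-- A rational point normalizing a closed subgroup scheme (reduced or not) which contains a Borel subgroup lies in
it. -/
theorem mem_of_normalizes (hN : Red.IsReductiveOver K N) (s : St ⟶ N) [IsMonHom s] [IsClosedImmersion s.left]
    (b : B ⟶ N) (hb : Red.IsBorelOver K b) (c : B ⟶ St) (hc : c ≫ s = b) (n : 𝟙_ (Over (Spec (CommRingCat.of K))) ⟶ N)
    (h1 : ∀ (T : Over (Spec (CommRingCat.of K))) (t : T ⟶ St), ∃ t' : T ⟶ St,
      (toUnit T ≫ n) * (t ≫ s) * (toUnit T ≫ n)⁻¹ = t' ≫ s)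
    (h2 : ∀ (T : Over (Spec (CommRingCat.of K))) (t : T ⟶ St), ∃ t' : T ⟶ St,
      (toUnit T ≫ n)⁻¹ * (t ≫ s) * (toUnit T ≫ n) = t' ≫ s) : ∃ z : 𝟙_ _ ⟶ St, z ≫ s = n := by
  have hNsm : Smooth N.hom := hN.2.1
  have hNlft : LocallyOfFiniteType N.hom := inferInstance
  have hSt : LocallyOfFiniteType St.hom := by rw [← Over.w s]; infer_instance
  obtain ⟨D, _, d, hd1, hd2, hd3, hd4⟩ := RedIdComp.exists_reduced St
  have hDlft : LocallyOfFiniteType D.hom := by rw [← Over.w d]; infer_instance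
  have hDsm : Smooth D.hom := Books.AlgPtsSmooth.smooth_of_isReduced D
  have hbm : IsMonHom b := hb.1
  have hsmono : Mono s := Sga3C.ClosedSub.mono_of_left _
  have hdmono : Mono d := Sga3C.ClosedSub.mono_of_left _
  have hBsm : Smooth B.hom := hb.2.2.1
  have hBred : IsReduced B.left := Books.AlgPtsSmooth.isReduced_of_smooth B
  obtain ⟨e, he⟩ := Local.exists_factor_red c d
  have hcomp : IsClosedImmersion (d ≫ s).left := by rw [Over.comp_left]; infer_instance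
  have hpar : Red.IsParabolicOver K (d ≫ s) := ⟨inferInstance, hcomp, hDsm, B, inferInstance, e, by
    rw [← Category.assoc, he, hc]; exact hb⟩
  have hnor := RedSub.H648.ClosedBor.isNormalizerOf_over hN (d ≫ s) hpar
  -- `n` normalizes `D`
  have key : ∀ (m : 𝟙_ (Over (Spec (CommRingCat.of K))) ⟶ N), (∀ (T : Over (Spec (CommRingCat.of K))) (t : T ⟶ St),
      ∃ t' : T ⟶ St, (toUnit T ≫ m) * (t ≫ s) * (toUnit T ≫ m)⁻¹ = t' ≫ s) →
      ∀ (T : Over (Spec (CommRingCat.of K))) (t : T ⟶ D),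
      ∃ t' : T ⟶ D, (toUnit T ≫ m) * (t ≫ d ≫ s) * (toUnit T ≫ m)⁻¹ = t' ≫ d ≫ s := by
    intro m hm T t
    obtain ⟨t₀, ht₀⟩ := hm D d
    obtain ⟨t₁, ht₁⟩ := Local.exists_factor_red t₀ d
    refine ⟨t ≫ t₁, ?_⟩
    rw [Category.assoc, ← Category.assoc t₁, ht₁, ← ht₀, MonObj.comp_mul, MonObj.comp_mul, GrpObj.comp_inv,
      ← Category.assoc t (toUnit D), toUnit_unique (t ≫ toUnit D) (toUnit T)]
  have hn := (hnor.2.2 (𝟙_ _) n).2 fun X' x h => by
    rw [toUnit_unique x (toUnit X')]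
    refine ⟨key n h1 X' h, ?_⟩
    obtain ⟨h', hh'⟩ := key n⁻¹ (fun T t => by
      obtain ⟨t', ht'⟩ := h2 T t
      refine ⟨t', ?_⟩
      rw [GrpObj.comp_inv, _root_.inv_inv]
      exact ht') X' h
    refine ⟨h', ?_⟩
    rw [GrpObj.comp_inv, _root_.inv_inv] at hh'
    exact hh'
  obtain ⟨z, hz⟩ := hn
  exact ⟨z ≫ d, by rw [Category.assoc, hz]⟩

end parab

section main

variable {k : Type u} [Field k] [IsAlgClosed k] {G X M N : Over (Spec (CommRingCat.of k))} [GrpObj G] [GrpObj M]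
  [GrpObj N] (a : AlgGrp.Action G X) (j : M ⟶ G) (i : N ⟶ G) [IsMonHom j] [IsMonHom i] [IsSeparated X.hom]
  (x₀ : 𝟙_ (Over (Spec (CommRingCat.of k))) ⟶ X)

/-- `λ` fixes `x₀` if `P(λ)` does. -/
lemma fix_coch (D : Red.SplitRed N) (x : Module.Dual ℤ D.M) {B : Over (Spec (CommRingCat.of k))} [GrpObj B]
    (b : B ⟶ N) (hb : IsDynP (coch D x) b)
    (hfix : ∀ (T : Over (Spec (CommRingCat.of k))) (t : T ⟶ B),
      sm a ((t ≫ b) ≫ i) (toUnit T ≫ x₀) = toUnit T ≫ x₀)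
    (T : Over (Spec (CommRingCat.of k))) (t : T ⟶ Red.Gm _) :
    sm a ((t ≫ negLam (coch D x)) ≫ i) (toUnit T ≫ x₀) = toUnit T ≫ x₀ := by
  obtain ⟨w, hw⟩ := RedSub.H660.TypeGeom.exists_torus D x hb
  have h := hfix T (t ≫ Red.DSmap _ (-(AddMonoidHom.id ℤ)) ≫ cochT D x ≫ w)
  rw [negLam, coch, ← hw]
  simp only [Category.assoc] at h ⊢
  exact h

/-- The stabilizer of `x₀` in the cell. -/
lemma eq_one_of_cell (D : Red.SplitRed N) (x : Module.Dual ℤ D.M) {B U : Over (Spec (CommRingCat.of k))} [GrpObj B]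
    [GrpObj U] (b : B ⟶ N) (hb : IsDynP (coch D x) b) (u : U ⟶ N) (hu : IsDynU (negLam (coch D x)) u)
    (hcent : ∀ (T : Over (Spec (CommRingCat.of k))) (m : T ⟶ M) (g : T ⟶ G), (m ≫ j) * g = g * (m ≫ j))
    (hfix : ∀ (T : Over (Spec (CommRingCat.of k))) (t : T ⟶ B),
      sm a ((t ≫ b) ≫ i) (toUnit T ≫ x₀) = toUnit T ≫ x₀)
    (hM : ∀ (T : Over (Spec (CommRingCat.of k))) (m : T ⟶ M),
      sm a (m ≫ j) (toUnit T ≫ x₀) = toUnit T ≫ x₀ → m = 1)
    {T : Over (Spec (CommRingCat.of k))} (m : T ⟶ M) (t : T ⟶ U) (s : T ⟶ B)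
    (h : sm a ((m ≫ j) * (((t ≫ u) * (s ≫ b)) ≫ i)) (toUnit T ≫ x₀) = toUnit T ≫ x₀) : m = 1 := by
  have h1 : sm a ((m ≫ j) * ((t ≫ u) ≫ i)) (toUnit T ≫ x₀) = toUnit T ≫ x₀ := by
    rw [MonObj.mul_comp, ← _root_.mul_assoc, mul_sm, hfix] at h
    exact h
  have hcm : IsMonHom (coch D x) := by unfold coch; infer_instance
  refine AffPts998.hom_ext_aff fun C _ c y => ?_
  rw [MonObj.comp_one]
  refine hM _ _ (Contract.fix_of_cell a j i x₀ hcent (negLam (coch D x))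
    (fix_coch a i x₀ D x b hb hfix) (y ≫ m) ((y ≫ t) ≫ u) (hu.ptU C c _) ?_)
  have h2 := congrArg (fun f => y ≫ f) h1
  simp only [comp_sm, MonObj.comp_mul, ← Category.assoc] at h2
  rwa [toUnit_unique (y ≫ toUnit _) (toUnit _)] at h2

/-- On rational points. -/
lemma eq_one_of_pt [LocallyOfFiniteType M.hom] (D : Red.SplitRed N) {B : Over (Spec (CommRingCat.of k))} [GrpObj B]
    (b : B ⟶ N) (hb : Red.IsBorelOver k b)
    (hcent : ∀ (T : Over (Spec (CommRingCat.of k))) (m : T ⟶ M) (g : T ⟶ G), (m ≫ j) * g = g * (m ≫ j))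
    (hfix : ∀ (T : Over (Spec (CommRingCat.of k))) (t : T ⟶ B),
      sm a ((t ≫ b) ≫ i) (toUnit T ≫ x₀) = toUnit T ≫ x₀)
    (hM : ∀ (T : Over (Spec (CommRingCat.of k))) (m : T ⟶ M),
      sm a (m ≫ j) (toUnit T ≫ x₀) = toUnit T ≫ x₀ → m = 1)
    (m : 𝟙_ (Over (Spec (CommRingCat.of k))) ⟶ M) (n : 𝟙_ (Over (Spec (CommRingCat.of k))) ⟶ N)
    (h : sm a ((m ≫ j) * (n ≫ i)) x₀ = x₀) : m = 1 ∧ sm a (n ≫ i) x₀ = x₀ := by
  have hN : Red.IsReductiveOver k N := AlgBc.isReductive_iff.1 D.reductive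
  let ai : AlgGrp.Action N X := a.restrict i
  have hai : ∀ {T : Over (Spec (CommRingCat.of k))} (g : T ⟶ N) (x : T ⟶ X), sm ai g x = sm a (g ≫ i) x :=
    fun g x => AlgGrp.Action.lift_restrict_act i a g x
  let _ := K408.OrbDim.stabGrp ai x₀
  have hs : IsMonHom (K408.OrbDim.stabι ai x₀) :=
    { one_hom := K408.OrbDim.stabLift_comp _ _ _ _
      mul_hom := K408.OrbDim.stabLift_comp _ _ _ _ }
  have hcl : IsClosedImmersion (K408.OrbDim.stabι ai x₀).left := by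
    have h3 : IsClosedImmersion x₀.left := by
      have h1 : x₀.left ≫ X.hom = 𝟙 _ := Over.w x₀
      have h2 : IsClosedImmersion (x₀.left ≫ X.hom) := by
        rw [h1]
        exact inferInstanceAs (IsClosedImmersion (𝟙 (Spec (CommRingCat.of k))))
      exact IsClosedImmersion.of_comp x₀.left X.hom
    exact inferInstanceAs (IsClosedImmersion (pullback.fst (ai.orbitMap x₀).left x₀.left))
  obtain ⟨c, hc⟩ := K408.OrbDim.exists_lift ai x₀ b (by
    have := hfix B (𝟙 B)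
    rwa [Category.id_comp, ← hai] at this)
  -- `g₀ = m n`
  have hg0 : ∀ T : Over (Spec (CommRingCat.of k)), sm a (toUnit T ≫ ((m ≫ j) * (n ≫ i))) (toUnit T ≫ x₀) =
      toUnit T ≫ x₀ := fun T => by rw [← comp_sm, h]
  have hg0' : ∀ T : Over (Spec (CommRingCat.of k)), sm a (toUnit T ≫ ((m ≫ j) * (n ≫ i)))⁻¹ (toUnit T ≫ x₀) =
      toUnit T ≫ x₀ := fun T => by
    nth_rewrite 1 [← hg0 T]
    rw [← mul_sm, inv_mul_cancel, one_sm]
  have hconj : ∀ (T : Over (Spec (CommRingCat.of k))) (g : T ⟶ G),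
      (toUnit T ≫ n ≫ i) * g * (toUnit T ≫ n ≫ i)⁻¹ =
        (toUnit T ≫ ((m ≫ j) * (n ≫ i))) * g * (toUnit T ≫ ((m ≫ j) * (n ≫ i)))⁻¹ := by
    intro T g
    have e1 := hcent T (toUnit T ≫ m) ((toUnit T ≫ n ≫ i) * g * (toUnit T ≫ n ≫ i)⁻¹)
    rw [MonObj.comp_mul, _root_.mul_inv_rev]
    simp only [Category.assoc] at e1
    calc _ = ((toUnit T ≫ m ≫ j) * ((toUnit T ≫ n ≫ i) * g * (toUnit T ≫ n ≫ i)⁻¹)) * (toUnit T ≫ m ≫ j)⁻¹ := by
            rw [e1, mul_inv_cancel_right]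
      _ = _ := by simp only [_root_.mul_assoc]
  have hconj' : ∀ (T : Over (Spec (CommRingCat.of k))) (g : T ⟶ G),
      (toUnit T ≫ n ≫ i)⁻¹ * g * (toUnit T ≫ n ≫ i) =
        (toUnit T ≫ ((m ≫ j) * (n ≫ i)))⁻¹ * g * (toUnit T ≫ ((m ≫ j) * (n ≫ i))) := by
    intro T g
    have e1 := hcent T (toUnit T ≫ m) g
    rw [MonObj.comp_mul, _root_.mul_inv_rev]
    simp only [Category.assoc] at e1
    calc _ = (toUnit T ≫ n ≫ i)⁻¹ * ((toUnit T ≫ m ≫ j)⁻¹ * ((toUnit T ≫ m ≫ j) * g)) * (toUnit T ≫ n ≫ i) := by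
            rw [inv_mul_cancel_left]
      _ = (toUnit T ≫ n ≫ i)⁻¹ * ((toUnit T ≫ m ≫ j)⁻¹ * (g * (toUnit T ≫ m ≫ j))) * (toUnit T ≫ n ≫ i) := by
            rw [e1]
      _ = _ := by simp only [_root_.mul_assoc]
  obtain ⟨z, hz⟩ := mem_of_normalizes hN (K408.OrbDim.stabι ai x₀) b hb c hc n (fun T t => by
      obtain ⟨t', ht'⟩ := K408.OrbDim.exists_lift ai x₀
        ((toUnit T ≫ n) * (t ≫ K408.OrbDim.stabι ai x₀) * (toUnit T ≫ n)⁻¹) (by
          have h5 := K408.OrbDim.comp_stabι_sm ai x₀ t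
          rw [hai] at h5
          rw [hai, MonObj.mul_comp, MonObj.mul_comp, GrpObj.inv_comp, Category.assoc (toUnit T) n i, hconj,
            mul_sm, mul_sm, hg0', h5, hg0])
      exact ⟨t', ht'.symm⟩) (fun T t => by
      obtain ⟨t', ht'⟩ := K408.OrbDim.exists_lift ai x₀
        ((toUnit T ≫ n)⁻¹ * (t ≫ K408.OrbDim.stabι ai x₀) * (toUnit T ≫ n)) (by
          have h5 := K408.OrbDim.comp_stabι_sm ai x₀ t
          rw [hai] at h5
          rw [hai, MonObj.mul_comp, MonObj.mul_comp, GrpObj.inv_comp, Category.assoc (toUnit T) n i, hconj',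
            mul_sm, mul_sm, hg0, h5, hg0'])
      exact ⟨t', ht'.symm⟩)
  have hn : sm a (n ≫ i) x₀ = x₀ := by
    have h6 := K408.OrbDim.comp_stabι_sm ai x₀ z
    rw [hai, hz, toUnit_unique (toUnit _) (𝟙 _), Category.id_comp] at h6
    exact h6
  refine ⟨hM _ m ?_, hn⟩
  rw [mul_sm, hn] at h
  rw [toUnit_unique (toUnit _) (𝟙 _), Category.id_comp]
  exact h

/-- **The stabilizer of `x₀` projects trivially to the central factor.** -/
theorem eq_one_of_fix [LocallyOfFiniteType M.hom] (D : Red.SplitRed N) (x : Module.Dual ℤ D.M)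
    (hx : ∀ c, x (D.P.root c) ≠ 0) {B : Over (Spec (CommRingCat.of k))} [GrpObj B] (b : B ⟶ N)
    (hb : IsDynP (coch D x) b)
    (hcent : ∀ (T : Over (Spec (CommRingCat.of k))) (m : T ⟶ M) (g : T ⟶ G), (m ≫ j) * g = g * (m ≫ j))
    (hfix : ∀ (T : Over (Spec (CommRingCat.of k))) (t : T ⟶ B),
      sm a ((t ≫ b) ≫ i) (toUnit T ≫ x₀) = toUnit T ≫ x₀)
    (hM : ∀ (T : Over (Spec (CommRingCat.of k))) (m : T ⟶ M),
      sm a (m ≫ j) (toUnit T ≫ x₀) = toUnit T ≫ x₀ → m = 1)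
    {T : Over (Spec (CommRingCat.of k))} (m : T ⟶ M) (n : T ⟶ N)
    (h : sm a ((m ≫ j) * (n ≫ i)) (toUnit T ≫ x₀) = toUnit T ≫ x₀) : m = 1 := by
  have hN : Red.IsReductiveOver k N := AlgBc.isReductive_iff.1 D.reductive
  have hNaff : IsAffine N.left := hN.1
  have hNaff' : IsAffineHom N.hom := D.reductive.1
  have hNsm : Smooth N.hom := hN.2.1
  have hNlft : LocallyOfFiniteType N.hom := inferInstance
  have hBor := RedSub.H660.TypeGeom.isBorelOver_of_regular D x hx hb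
  have hcm : IsMonHom (coch D x) := by unfold coch; infer_instance
  obtain ⟨U, _, u, hu, -⟩ := DynExist998.exists_isDynU (negLam (coch D x))
  have hcell := DynCell998.isOpenImmersion_cell hb hu
  -- the universal case
  obtain ⟨F, e, he1, he2, he3⟩ := Local.exists_fibre (Homog.orb2 a j i x₀) x₀
  have hMN : LocallyOfFiniteType (M ⊗ N).hom :=
    inferInstanceAs (LocallyOfFiniteType (pullback.fst M.hom N.hom ≫ M.hom))
  have hF : LocallyOfFiniteType F.hom := by rw [← Over.w e]; infer_instance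
  have hFfix : sm a (((e ≫ fst M N) ≫ j) * ((e ≫ snd M N) ≫ i)) (toUnit F ≫ x₀) = toUnit F ≫ x₀ := by
    rw [← Homog.lift_orb2, he2]
  have huniv : e ≫ fst M N = 1 := by
    refine Local.eq_of_local _ _ fun y => ?_
    have hy : sm a (((y ≫ e ≫ fst M N) ≫ j) * ((y ≫ e ≫ snd M N) ≫ i)) x₀ = x₀ := by
      have h2 := congrArg (fun f => y ≫ f) hFfix
      simp only [comp_sm, MonObj.comp_mul, ← Category.assoc] at h2
      rw [toUnit_unique (y ≫ toUnit _) (𝟙 _), Category.id_comp] at h2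
      simpa only [← Category.assoc] using h2
    obtain ⟨hy1, hy2⟩ := eq_one_of_pt a j i x₀ D b hBor hcent hfix hM _ _ hy
    have hy3 : ∀ T : Over (Spec (CommRingCat.of k)), sm a ((toUnit T ≫ (y ≫ e ≫ snd M N))⁻¹ ≫ i) (toUnit T ≫ x₀) =
        toUnit T ≫ x₀ := fun T => by
      have h3 : sm a ((toUnit T ≫ (y ≫ e ≫ snd M N)) ≫ i) (toUnit T ≫ x₀) = toUnit T ≫ x₀ := by
        rw [Category.assoc, ← comp_sm, hy2]
      nth_rewrite 1 [← h3]
      rw [← mul_sm, ← MonObj.mul_comp, inv_mul_cancel, MonObj.one_comp, one_sm]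
    let ψ : F ⟶ N := (e ≫ snd M N) * (toUnit F ≫ (y ≫ e ≫ snd M N))⁻¹
    let cl := (u ⊗ₘ b) ≫ μ[N]
    have hψy : y ≫ ψ = 1 := by
      change y ≫ ((e ≫ snd M N) * (toUnit F ≫ (y ≫ e ≫ snd M N))⁻¹) = 1
      rw [MonObj.comp_mul, GrpObj.comp_inv, ← Category.assoc y (toUnit F), toUnit_unique (y ≫ toUnit F) (𝟙 _),
        Category.id_comp, mul_inv_cancel]
    refine ⟨ψ.left ⁻¹ᵁ cl.left.opensRange, ?_, ?_⟩
    · change ψ.left (pt y) ∈ Set.range cl.left
      rw [← pt_comp, hψy]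
      obtain ⟨q, hq⟩ := (DynCell998.exists_tensor_iff (u := u) (p := b) (1 : 𝟙_ _ ⟶ N)).2 ⟨1, 1, by
        have := hu.isMonHom
        have := hb.isMonHom
        rw [MonObj.one_comp, MonObj.one_comp, _root_.mul_one]⟩
      refine ⟨pt q, ?_⟩
      rw [← pt_comp, hq]
    · let V : F.left.Opens := ψ.left ⁻¹ᵁ cl.left.opensRange
      let w : Over.mk (V.ι ≫ F.hom) ⟶ F := Over.homMk V.ι rfl
      have hw : w ≫ e ≫ fst M N = w ≫ 1 := by
        have hr : Set.range (w ≫ ψ).left ⊆ Set.range cl.left := by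
          rintro _ ⟨v, rfl⟩
          exact v.2
        let g : Over.mk (V.ι ≫ F.hom) ⟶ U ⊗ B := Over.homMk (IsOpenImmersion.lift cl.left (w ≫ ψ).left hr) (by
          rw [← Over.w cl, ← Category.assoc, IsOpenImmersion.lift_fac, Over.w])
        have hg : g ≫ cl = w ≫ ψ := by
          ext1
          exact IsOpenImmersion.lift_fac _ _ _
        obtain ⟨t, s, hts⟩ := (DynCell998.exists_tensor_iff (u := u) (p := b) (w ≫ ψ)).1 ⟨g, hg⟩
        rw [MonObj.comp_one]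
        refine eq_one_of_cell a j i x₀ D x b hb u hu hcent hfix hM _ t s ?_
        rw [hts]
        have h8 : (w ≫ ψ) ≫ i = (((w ≫ e) ≫ snd M N) ≫ i) *
            ((toUnit _ ≫ (y ≫ e ≫ snd M N))⁻¹ ≫ i) := by
          change (w ≫ ((e ≫ snd M N) * (toUnit F ≫ (y ≫ e ≫ snd M N))⁻¹)) ≫ i = _
          rw [MonObj.comp_mul, GrpObj.comp_inv, ← Category.assoc w (toUnit F),
            toUnit_unique (w ≫ toUnit F) (toUnit _), MonObj.mul_comp, ← Category.assoc w e]
        rw [h8, ← _root_.mul_assoc, mul_sm, hy3]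
        have h9 := congrArg (fun f => w ≫ f) hFfix
        simp only [comp_sm, MonObj.comp_mul, ← Category.assoc] at h9
        rw [toUnit_unique (w ≫ toUnit _) (toUnit _)] at h9
        simpa only [← Category.assoc] using h9
      exact congrArg (fun f => f.left) hw
  obtain ⟨g, hg⟩ := he3 T (lift m n) (by rw [Homog.lift_orb2, lift_fst, lift_snd, h])
  have h7 := congrArg (fun f => f ≫ fst M N) hg
  simp only [lift_fst, Category.assoc, huniv, MonObj.comp_one] at h7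
  exact h7.symm

end main

end K501.Stab
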