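import Groth.Agent.AlgGrp.K501.Semi
import Groth.Agent.AlgGrp.K501.Stab
import Groth.Agent.AlgGrp.K501.Split
import Groth.Agent.AGF.K499.SepSplit
import Groth.Agent.Sga3B.RootCmp
import Groth.Agent.S2962
import Groth.Agent.AlgGrp.K398.Pts

/-!
# Complete homogeneous varieties

`G` acts faithfully on a proper `X`, `j : M ⟶ G` central, `i : N ⟶ G` smooth connected affine and all the maps
`(m, n) ↦ j(m) i(n) x₀` are faithfully flat.
-/

set_option autoImplicit false
set_option linter.unusedSectionVars false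
universe u
open CategoryTheory MonoidalCategory CartesianMonoidalCategory MonObj GrpObj AlgebraicGeometry Limits

namespace K501.Complete

open Groth.Agent Groth.Agent.Books.BorelOrb K403.Act K501.Homog Groth.Agent.Sga3B.Parab Groth.Agent.Sga3B.Par
  Groth.Agent.Sga3B

lemma comp_mulmap {S : Scheme.{u}} {G M N : Over S} [GrpObj G] (j : M ⟶ G) (i : N ⟶ G) {T : Over S} (g : T ⟶ M ⊗ N) :
    g ≫ (j ⊗ₘ i) ≫ μ[G] = ((g ≫ fst M N) ≫ j) * ((g ≫ snd M N) ≫ i) := by
  rw [Hom.mul_def, ← Category.assoc]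
  congr 1
  apply CartesianMonoidalCategory.hom_ext <;> simp

/-- The multiplication map of a central and an arbitrary homomorphism is a homomorphism. -/
theorem isMonHom_mulmap {S : Scheme.{u}} {G M N : Over S} [GrpObj G] [GrpObj M] [GrpObj N] (j : M ⟶ G) (i : N ⟶ G)
    [IsMonHom j] [IsMonHom i]
    (hcent : ∀ (T : Over S) (m : T ⟶ M) (g : T ⟶ G), (m ≫ j) * g = g * (m ≫ j)) :
    IsMonHom ((j ⊗ₘ i) ≫ μ[G]) := by
  apply Sga3B.Pts.isMonHom_of_points
  intro T x y
  rw [comp_mulmap, comp_mulmap, comp_mulmap, MonObj.mul_comp x y (fst M N), MonObj.mul_comp x y (snd M N),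
    MonObj.mul_comp _ _ j, MonObj.mul_comp _ _ i]
  have e := hcent T (y ≫ fst M N) ((x ≫ snd M N) ≫ i)
  calc ((x ≫ fst M N) ≫ j) * ((y ≫ fst M N) ≫ j) * (((x ≫ snd M N) ≫ i) * ((y ≫ snd M N) ≫ i))
      = ((x ≫ fst M N) ≫ j) * (((y ≫ fst M N) ≫ j) * ((x ≫ snd M N) ≫ i)) * ((y ≫ snd M N) ≫ i) := by
        simp only [_root_.mul_assoc]
    _ = _ := by rw [e]; simp only [_root_.mul_assoc]

variable {k : Type u} [Field k] [IsAlgClosed k] {G X M N : Over (Spec (CommRingCat.of k))} [GrpObj G] [GrpObj M]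
  [GrpObj N] (a : AlgGrp.Action G X) (j : M ⟶ G) (i : N ⟶ G) [IsMonHom j] [IsMonHom i]
  (hcent : ∀ (T : Over (Spec (CommRingCat.of k))) (m : T ⟶ M) (g : T ⟶ G), (m ≫ j) * g = g * (m ≫ j))
  (horb : ∀ x₀ : 𝟙_ (Over (Spec (CommRingCat.of k))) ⟶ X, Flat (orb2 a j i x₀).left ∧
    Surjective (orb2 a j i x₀).left ∧ QuasiCompact (orb2 a j i x₀).left)
  (hfaith : ∀ (T : Over (Spec (CommRingCat.of k))) (g : T ⟶ G), Triv a g → g = 1)

include hcent horb hfaith in
/-- A functorially central point of `N` is trivial. -/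
theorem eq_one_of_central [Mono i] (x₀ : 𝟙_ (Over (Spec (CommRingCat.of k))) ⟶ X) (D : Red.SplitRed N)
    (x : Module.Dual ℤ D.M)
    {B : Over (Spec (CommRingCat.of k))} [GrpObj B] (b : B ⟶ N) (hb : IsDynP (coch D x) b)
    (hfix : ∀ (T : Over (Spec (CommRingCat.of k))) (t : T ⟶ B),
      sm a ((t ≫ b) ≫ i) (toUnit T ≫ x₀) = toUnit T ≫ x₀)
    {T : Over (Spec (CommRingCat.of k))} (s : T ⟶ N)
    (hs : ∀ (T' : Over (Spec (CommRingCat.of k))) (t : T' ⟶ T) (n : T' ⟶ N), (t ≫ s) * n = n * (t ≫ s)) : s = 1 := by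
  obtain ⟨h1, h2, h3⟩ := horb x₀
  obtain ⟨t, ht, -⟩ := (S2962.result D T s).1 hs
  obtain ⟨w, hw⟩ := RedSub.H660.TypeGeom.exists_torus D x hb
  have h4 : Triv a (s ≫ i) := by
    refine triv_of_central a j i x₀ (s ≫ i) (fun T' t m => (hcent _ _ _).symm) (fun T' t n => ?_) ?_
    · rw [← Category.assoc, ← MonObj.mul_comp, hs, MonObj.mul_comp]
    · rw [← ht, ← hw]
      have h5 := hfix T (t ≫ w)
      simp only [Category.assoc] at h5 ⊢
      exact h5
  rw [← cancel_mono i, hfaith _ _ h4, MonObj.one_comp]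

include hcent horb hfaith in
theorem main [IsProper X.hom] [Nonempty X.left] [IsReduced G.left] [LocallyOfFiniteType G.hom] [QuasiCompact G.hom]
    [IsClosedImmersion i.left] [IsClosedImmersion j.left] [IsAffine N.left] [Smooth N.hom]
    [ConnectedSpace N.left] (hsurj : Surjective ((j ⊗ₘ i) ≫ μ[G]).left) :
    IsIso ((j ⊗ₘ i) ≫ μ[G]) ∧ IsProper M.hom ∧ Red.IsSemisimpleOver k N ∧
      (∀ (Z : Over (Spec (CommRingCat.of k))) [GrpObj Z] (z : Z ⟶ N), Red.IsCentre z → IsIso Z.hom) ∧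
      ∃ (Y : Over (Spec (CommRingCat.of k))) (b : AlgGrp.Action N Y) (e : X ≅ M ⊗ Y),
        ∀ (S : Over (Spec (CommRingCat.of k))) (m' : S ⟶ M) (n : S ⟶ N) (x : S ⟶ X),
          lift ((m' ≫ j) * (n ≫ i)) x ≫ a.act ≫ e.hom =
            lift ((x ≫ e.hom ≫ fst M Y) * m') (lift n (x ≫ e.hom ≫ snd M Y) ≫ b.act) := by
  have hmi : Mono i := Sga3C.ClosedSub.mono_of_left _
  have hmj : Mono j := Sga3C.ClosedSub.mono_of_left _
  have hMft : LocallyOfFiniteType M.hom := by rw [← Over.w j]; infer_instance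
  have hMqc : QuasiCompact M.hom := by rw [← Over.w j]; infer_instance
  have hNft : LocallyOfFiniteType N.hom := inferInstance
  have hNqc : QuasiCompact N.hom := by rw [← Over.w i]; infer_instance
  have hMN : LocallyOfFiniteType (M ⊗ N).hom :=
    inferInstanceAs (LocallyOfFiniteType (pullback.fst M.hom N.hom ≫ M.hom))
  have hMNqc : QuasiCompact (M ⊗ N).hom :=
    inferInstanceAs (QuasiCompact (pullback.fst M.hom N.hom ≫ M.hom))
  -- semisimplicity and the Borel subgroup
  have hss := Semi.isSemisimpleOver a j i hcent horb hfaith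
  obtain ⟨D⟩ := K499.SepSplit.exists_splitRed k N (AlgBc.isReductive_iff.2 hss.1)
  obtain ⟨lam, hlam⟩ := Sga3B.RootCmp.exists_regular (fun c => D.P.root c) (fun c => D.P.ne_zero c)
  let x : Module.Dual ℤ D.M := lam.toIntLinearMap
  have hx : ∀ c, x (D.P.root c) ≠ 0 := hlam
  have hNaff' : IsAffineHom N.hom := D.reductive.1
  obtain ⟨B, _, b, hb, hbcl⟩ := DynExist998.exists_isDynP (coch D x)
  have hBor := RedSub.H660.TypeGeom.isBorelOver_of_regular D x hx hb
  have hbm : IsMonHom b := hb.isMonHom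
  obtain ⟨x₀, hfix⟩ : ∃ x₀ : 𝟙_ (Over (Spec (CommRingCat.of k))) ⟶ X, ∀ (T : Over (Spec (CommRingCat.of k)))
      (t : T ⟶ B), sm a ((t ≫ b) ≫ i) (toUnit T ≫ x₀) = toUnit T ≫ x₀ := by
    have h1 : Smooth B.hom := hBor.2.2.1
    have h2 : ConnectedSpace B.left := hBor.2.2.2.1
    have h3 : IsAffine B.left := isAffine_of_isAffineHom b.left
    have h4 := Semi.isSolvable_pts hBor.2.2.2.2.1
    obtain ⟨x₀, hx₀⟩ := S3276.result k B X (a.restrict (b ≫ i))
    refine ⟨x₀, fun T t => ?_⟩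
    have h5 := hx₀ T t
    rw [AlgGrp.Action.lift_restrict_act] at h5
    rw [Category.assoc]
    exact h5
  obtain ⟨hof, hos, hoq⟩ := horb x₀
  -- central points
  have hcN : ∀ {T : Over (Spec (CommRingCat.of k))} (s : T ⟶ N),
      (∀ (T' : Over (Spec (CommRingCat.of k))) (t : T' ⟶ T) (n : T' ⟶ N), (t ≫ s) * n = n * (t ≫ s)) → s = 1 :=
    fun {T} s hs => eq_one_of_central a j i hcent horb hfaith x₀ D x b hb hfix s hs
  have hM : ∀ (T : Over (Spec (CommRingCat.of k))) (m : T ⟶ M),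
      sm a (m ≫ j) (toUnit T ≫ x₀) = toUnit T ≫ x₀ → m = 1 := by
    intro T m hm
    have h4 : Triv a (m ≫ j) := by
      refine triv_of_central a j i x₀ (m ≫ j) (fun T' t m' => ?_) (fun T' t n => ?_) hm
      · rw [← Category.assoc, hcent]
      · rw [← Category.assoc, hcent]
    rw [← cancel_mono j, hfaith _ _ h4, MonObj.one_comp]
  have hMN1 : ∀ {T : Over (Spec (CommRingCat.of k))} (m : T ⟶ M) (n : T ⟶ N), m ≫ j = n ≫ i → n = 1 := by
    intro T m n h
    refine hcN n fun T' t n' => ?_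
    rw [← cancel_mono i, MonObj.mul_comp, MonObj.mul_comp, Category.assoc, ← h, ← Category.assoc, hcent]
  -- the multiplication is an isomorphism
  have hφm := isMonHom_mulmap j i hcent
  have hφmono : Mono ((j ⊗ₘ i) ≫ μ[G]) := by
    refine ⟨fun {T} p q hpq => ?_⟩
    rw [comp_mulmap, comp_mulmap] at hpq
    have h1 : ((q ≫ fst M N)⁻¹ * (p ≫ fst M N)) ≫ j = ((q ≫ snd M N) * (p ≫ snd M N)⁻¹) ≫ i := by
      rw [MonObj.mul_comp, MonObj.mul_comp, GrpObj.inv_comp, GrpObj.inv_comp, inv_mul_eq_iff_eq_mul,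
        ← _root_.mul_assoc, ← hpq, mul_inv_cancel_right]
    have h2 := hMN1 _ _ h1
    have h3 : q ≫ snd M N = p ≫ snd M N := by rwa [mul_inv_eq_one] at h2
    have h4 : (p ≫ fst M N) = (q ≫ fst M N) := by
      rw [h3] at hpq
      rw [← cancel_mono j]
      exact mul_right_cancel hpq
    exact CartesianMonoidalCategory.hom_ext _ _ h4 h3.symm
  have hiso : IsIso ((j ⊗ₘ i) ≫ μ[G]) := by
    have h1 : Flat ((j ⊗ₘ i) ≫ μ[G]).left := K398.Pts.flat_of_surjective _
    have h2 : LocallyOfFiniteType ((j ⊗ₘ i) ≫ μ[G]).left := K398.Pts.locallyOfFiniteType_left _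
    have h3 : IsLocallyNoetherian G.left := LocallyOfFiniteType.isLocallyNoetherian G.hom
    have h4 : IsOpenImmersion ((j ⊗ₘ i) ≫ μ[G]).left := IsOpenImmersion.of_flat_of_mono _
    have h5 : IsIso ((j ⊗ₘ i) ≫ μ[G]).left := by
      apply IsOpenImmersion.isIso
    have : IsIso ((Over.forget _).map ((j ⊗ₘ i) ≫ μ[G])) := h5
    exact isIso_of_reflects_iso _ (Over.forget _)
  -- the projection to `M`
  obtain ⟨r, hr⟩ := Split.exists_retr a j i x₀ hcent (fun T m n h =>
    Stab.eq_one_of_fix a j i x₀ D x hx b hb hcent hfix hM m n h)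
  have hMsep : IsSeparated M.hom := Books.AntiAffine.isSeparated_hom M
  refine ⟨hiso, ?_, hss, ?_, ?_⟩
  · -- `X ⟶ M` is surjective
    have h1 : Surjective r.left := by
      have h2 : Surjective ((orb2 a j i x₀).left ≫ r.left) := by
        rw [← Over.comp_left, hr]
        have h3 : Surjective N.hom := by
          refine ⟨fun z => ?_⟩
          have : Nonempty N.left := inferInstance
          exact ⟨Classical.arbitrary _, Subsingleton.elim (α := Spec (CommRingCat.of k)) _ _⟩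
        exact inferInstanceAs (Surjective (pullback.fst M.hom N.hom))
      exact Surjective.of_comp (orb2 a j i x₀).left r.left
    exact K398.Pts.isProper_of_surjective r
  · intro Z _ z hz
    have hzm : Mono z := hz.2.1
    have h1 := (hz.2.2 Z z).1 ⟨𝟙 Z, Category.id_comp _⟩
    have h2 : z = 1 := hcN z fun T' t n => by
      have := h1 T' t n
      rwa [Category.comp_id] at this
    exact Semi.isTrivialGrp_of_id_eq_one (by
      rw [← cancel_mono z, Category.id_comp, h2, MonObj.comp_one])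
  · exact Split.exists_split a j i hcent r fun T m n x => Split.comp_retr a j i x₀ hcent r hr m n x

end K501.Complete
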