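import Groth.Prelude.Def_ChGrp
import Groth.Agent.AlgGrp.K501.Homog
import Groth.Agent.S3276
import Groth.Agent.AGF.K501.RadSch
import Groth.Agent.RedSub.K194.TU
import Groth.Agent.Sga3B.MaxTorNear900
import Groth.Agent.Sga3.H784.Neutral
import Groth.Agent.Sga3B.TorusAlgClosed

/-!
# The linear part of a group acting faithfully and transitively on a complete variety is semisimple
-/

set_option autoImplicit false
set_option linter.unusedSectionVars false
universe u
open CategoryTheory MonoidalCategory CartesianMonoidalCategory MonObj GrpObj AlgebraicGeometry Limits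

namespace K501.Semi

open Groth.Agent Groth.Agent.Books.BorelOrb K403.Act K501.Homog

variable {k : Type u} [Field k]

lemma isTrivialGrp_of_id_eq_one {S : Scheme.{u}} {U : Over S} [GrpObj U] (h : (𝟙 U : U ⟶ U) = 1) :
    Red.IsTrivialGrp U := by
  have h1 : toUnit U ≫ η[U] = 𝟙 U := by rw [h, Hom.one_def]
  have h2 : IsIso (toUnit U) := ⟨η[U], h1, toUnit_unique _ _⟩
  have h3 : (toUnit U).left = U.hom := by simp
  have h4 : IsIso (toUnit U).left := inferInstanceAs (IsIso ((Over.forget _).map (toUnit U)))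
  rw [h3] at h4
  exact h4

lemma isSolvable_pts {U : Over (Spec (CommRingCat.of k))} [GrpObj U] (h : Red.IsSolvableGrp U) :
    Group.IsSolvable (𝟙_ (Over (Spec (CommRingCat.of k))) ⟶ U) := by
  obtain ⟨n, hn⟩ := h
  exact ⟨n, hn _⟩

variable [IsAlgClosed k] {G X M N : Over (Spec (CommRingCat.of k))} [GrpObj G] [GrpObj M] [GrpObj N]
  (a : AlgGrp.Action G X) (j : M ⟶ G) (i : N ⟶ G) [IsMonHom j] [IsMonHom i]
  (hcent : ∀ (T : Over (Spec (CommRingCat.of k))) (m : T ⟶ M) (g : T ⟶ G), (m ≫ j) * g = g * (m ≫ j))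
  (horb : ∀ x₀ : 𝟙_ (Over (Spec (CommRingCat.of k))) ⟶ X, Flat (orb2 a j i x₀).left ∧
    Surjective (orb2 a j i x₀).left ∧ QuasiCompact (orb2 a j i x₀).left)
  (hfaith : ∀ (T : Over (Spec (CommRingCat.of k))) (g : T ⟶ G), Triv a g → g = 1)

include hcent horb hfaith in
/-- A normal smooth connected solvable affine subgroup of `N` is trivial. -/
theorem trivial_of_solvable [IsProper X.hom] [Nonempty X.left] [Mono i]
    {U : Over (Spec (CommRingCat.of k))} [GrpObj U] (w : U ⟶ N) [IsMonHom w] [Mono w] (hw : AlgGrp.IsNormalHom w)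
    [IsAffine U.left] [Smooth U.hom] [ConnectedSpace U.left]
    (hsol : Group.IsSolvable (𝟙_ (Over (Spec (CommRingCat.of k))) ⟶ U)) : Red.IsTrivialGrp U := by
  obtain ⟨x₀, hx₀⟩ := S3276.result k U X (a.restrict (w ≫ i))
  obtain ⟨h1, h2, h3⟩ := horb x₀
  have h4 : ∀ (T : Over (Spec (CommRingCat.of k))) (u : T ⟶ U), sm a (u ≫ w ≫ i) (toUnit T ≫ x₀) = toUnit T ≫ x₀ := by
    intro T u
    have h5 := hx₀ T u
    rwa [AlgGrp.Action.lift_restrict_act] at h5
  have h6 : 𝟙 U ≫ w ≫ i = 1 := hfaith _ _ (triv_of_normal a j i x₀ hcent w hw h4 (𝟙 U))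
  apply isTrivialGrp_of_id_eq_one
  rw [← cancel_mono w, ← cancel_mono i, Category.assoc, h6, MonObj.one_comp, MonObj.one_comp]

include hcent horb hfaith in
/-- `N` is semisimple. -/
theorem isSemisimpleOver [IsProper X.hom] [Nonempty X.left] [Mono i] [IsAffine N.left] [Smooth N.hom]
    [ConnectedSpace N.left] : Red.IsSemisimpleOver k N := by
  refine ⟨⟨inferInstance, inferInstance, inferInstance, ?_⟩, ?_⟩
  · intro U _ w _ hcl hsm hcon hnor hno
    have hmono : Mono w := Sga3C.ClosedSub.mono_of_left _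
    have haff : IsAffine U.left := isAffine_of_isAffineHom w.left
    refine trivial_of_solvable a j i hcent horb hfaith w hnor (isSolvable_pts ?_)
    exact K194.TU.isSolvableGrp_of_hasNoSubtorus U
      fun s => ((K501.RadSch.fib_iff U).2 ⟨hcon, hno⟩ s).2
  · intro T _ w _ hcl hnor hT
    have hmono : Mono w := Sga3C.ClosedSub.mono_of_left _
    have haff : IsAffine T.left := isAffine_of_isAffineHom w.left
    have hsm : Smooth T.hom := Sga3B.TorusAlgClosed.smooth_of_isTorus hT
    have hcon : ConnectedSpace T.left := Sga3.H784.Neutral.connectedSpace_of_isTorus hT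
    refine trivial_of_solvable a j i hcent horb hfaith w hnor ?_
    let _ : CommGroup (𝟙_ (Over (Spec (CommRingCat.of k))) ⟶ T) :=
      { mul_comm := fun x y => Sga3B.MaxTorNear900.mul_comm_of_isTorus hT _ x y }
    infer_instance

end K501.Semi
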